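import Mathlib
import Cfsg.Prelude.Def_HallClasses
import Cfsg.Agent.Lib.SymTwo.Pronormal

/-!
# Pronormality of overgroups of Sylow subgroups in extensions

Criterion for all subgroups containing a Sylow `p`-subgroup to be pronormal in a group with a
normal subgroup `A`.
-/

set_option autoImplicit false
set_option linter.style.haveILetI false

namespace CfsgLib.PronormalSylow

open Subgroup

universe u

variable {G : Type u} [Group G]

local notation H:75 " ⧩ " g:76 => Subgroup.map (MulEquiv.toMonoidHom (MulAut.conj g)) H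

/-- Every subgroup containing a Sylow `p`-subgroup is pronormal. -/
def SylowOvergroupsPronormal (p : ℕ) (X : Type u) [Group X] : Prop :=
  ∀ K : Subgroup X, (∃ P : Sylow p X, (P : Subgroup X) ≤ K) → Cfsg.IsPronormal K

theorem conj_conj (H : Subgroup G) (a b : G) : (H ⧩ b) ⧩ a = H ⧩ (a * b) := by
  rw [Subgroup.map_map]
  congr 1
  ext x
  simp [mul_assoc]

theorem conj_one (H : Subgroup G) : H ⧩ (1 : G) = H := by
  ext x
  simp

theorem conj_eq_of_mem_normalizer {H : Subgroup G} {g : G}
    (h : g ∈ normalizer (H : Set G)) : H ⧩ g = H :=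
  mem_normalizer_iff_map_conj_eq.mp h

theorem mem_normalizer_of_conj_eq {H : Subgroup G} {g : G} (h : H ⧩ g = H) :
    g ∈ normalizer (H : Set G) :=
  mem_normalizer_iff_map_conj_eq.mpr h

theorem conj_eq_of_mem {H : Subgroup G} {g : G} (h : g ∈ H) : H ⧩ g = H :=
  conj_eq_of_mem_normalizer (le_normalizer h)

theorem map_conj_hom {X : Type*} [Group X] (f : G →* X) (H : Subgroup G) (g : G) :
    (H ⧩ g).map f = (H.map f).map (MulAut.conj (f g)).toMonoidHom := by
  rw [Subgroup.map_map, Subgroup.map_map]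
  congr 1
  ext x
  simp

theorem isPronormal_conj (H : Subgroup G) (a : G) (h : Cfsg.IsPronormal H) :
    Cfsg.IsPronormal (H ⧩ a) := by
  intro g
  obtain ⟨x, hx, hxe⟩ := h (a⁻¹ * g * a)
  refine ⟨a * x * a⁻¹, ?_, ?_⟩
  · have h1 : a * x * a⁻¹ ∈ (H ⊔ H ⧩ (a⁻¹ * g * a)) ⧩ a := ⟨x, hx, by simp⟩
    rw [Subgroup.map_sup, conj_conj] at h1
    rwa [conj_conj, show g * a = a * (a⁻¹ * g * a) by group]
  · rw [conj_conj, conj_conj, show g * a = a * (a⁻¹ * g * a) by group, ← conj_conj, hxe, conj_conj]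
    congr 3
    group

variable [Finite G] {p : ℕ} [Fact p.Prime]

theorem exists_mul_mem_normalizer (A : Subgroup G) (S : Sylow p A) (H0 : Subgroup G)
    (hH0 : H0 ≤ A) (hT : (S : Subgroup A).map A.subtype ≤ H0) (c : G)
    (hTc : ((S : Subgroup A).map A.subtype) ⧩ c ≤ H0) :
    ∃ h ∈ H0, h * c ∈ normalizer (((S : Subgroup A).map A.subtype : Subgroup G) : Set G) := by
  set T := (S : Subgroup A).map A.subtype with hTdef
  let S1 : Sylow p H0 := (S.2.map A.subtype).comap_subtype (K := H0) |>.toSylow (by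
    have h1 : (T.subgroupOf H0).index ∣ (S : Subgroup A).index := by
      have e : T.relIndex A = (S : Subgroup A).index := by
        rw [relIndex, hTdef, subgroupOf, comap_map_eq_self_of_injective A.subtype_injective]
      exact e ▸ ⟨H0.relIndex A, (relIndex_mul_relIndex T H0 A hT hH0).symm⟩
    exact fun hd => S.not_dvd_index (hd.trans h1))
  let S2 : Sylow p H0 := ((S.2.map A.subtype).map (MulAut.conj c).toMonoidHom).comap_subtype
    (K := H0) |>.toSylow (by
    intro hd
    have e1 : Nat.card (T ⧩ c) = Nat.card T :=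
      Subgroup.card_map_of_injective (MulAut.conj c).injective
    have e2 : ((T ⧩ c).subgroupOf H0).index = (T.subgroupOf H0).index := by
      have a1 := ((T ⧩ c).subgroupOf H0).card_mul_index
      have a2 := (T.subgroupOf H0).card_mul_index
      rw [Nat.card_congr (subgroupOfEquivOfLe hTc).toEquiv, e1] at a1
      rw [Nat.card_congr (subgroupOfEquivOfLe hT).toEquiv, ← a1] at a2
      exact (Nat.eq_of_mul_eq_mul_left Nat.card_pos a2).symm
    exact S1.not_dvd_index (e2 ▸ hd))
  obtain ⟨h, hh⟩ := MulAction.exists_smul_eq H0 S2 S1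
  refine ⟨h, h.2, mem_normalizer_of_conj_eq ?_⟩
  have h1 := congr_arg (fun Q : Sylow p H0 => (Q : Subgroup H0).map H0.subtype) hh
  change ((((T ⧩ c).subgroupOf H0).map (MulAut.conj h).toMonoidHom).map H0.subtype) =
    (T.subgroupOf H0).map H0.subtype at h1
  rw [map_conj_hom, subgroupOf_map_subtype, subgroupOf_map_subtype, inf_eq_left.mpr hTc,
    inf_eq_left.mpr hT] at h1
  rw [← conj_conj]
  exact h1

/-- The sufficiency part of the criterion, for one subgroup `H`. -/
theorem isPronormal_of_extension (A : Subgroup G) [A.Normal] (S : Sylow p A)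
    (hA : SylowOvergroupsPronormal p A) (hQ : SylowOvergroupsPronormal p (G ⧸ A))
    (hN : ∀ M : Subgroup G, M ≤ normalizer (((S : Subgroup A).map A.subtype : Subgroup G) : Set G) →
      (∃ P : Sylow p G, (P : Subgroup G) ≤ M) →
      ∀ g ∈ normalizer (((S : Subgroup A).map A.subtype : Subgroup G) : Set G),
        ∃ x ∈ M ⊔ M ⧩ g, M ⧩ g = M ⧩ x)
    (hii : ∀ K : Subgroup G, (∃ P : Sylow p G, (P : Subgroup G) ≤ K) →
      (normalizer (K : Set G)).map (QuotientGroup.mk' A) =
        normalizer ((K.map (QuotientGroup.mk' A) : Subgroup (G ⧸ A)) : Set (G ⧸ A)))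
    (H : Subgroup G) (P : Sylow p G) (hPH : (P : Subgroup G) ≤ H)
    (hPA : (P : Subgroup G) ⊓ A = (S : Subgroup A).map A.subtype) : Cfsg.IsPronormal H := by
  set T := (S : Subgroup A).map A.subtype with hTdef
  set N := normalizer (T : Set G) with hNdef
  have hTA : T ≤ A := map_subtype_le _
  have hTH : T ≤ H := (hPA ▸ inf_le_left : T ≤ (P : Subgroup G)).trans hPH
  have hPN : (P : Subgroup G) ≤ N := by
    intro u hu
    rw [hNdef, ← hPA]
    refine mem_normalizer_iff.mpr fun t => ?_
    have hAn : t ∈ A ↔ u * t * u⁻¹ ∈ A :=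
      ⟨fun h => Normal.conj_mem inferInstance t h u, fun h => by
        simpa [mul_assoc] using (inferInstance : A.Normal).conj_mem _ h u⁻¹⟩
    rw [mem_inf, mem_inf, hAn, mul_mem_cancel_right (inv_mem hu), mul_mem_cancel_left hu]
  set H0 := H ⊓ A with hH0def
  have hTH0 : T ≤ H0 := le_inf hTH hTA
  have hHH0 : H ≤ normalizer (H0 : Set G) := by
    intro u hu
    refine mem_normalizer_iff.mpr fun t => ?_
    have hAn : t ∈ A ↔ u * t * u⁻¹ ∈ A :=
      ⟨fun h => Normal.conj_mem inferInstance t h u, fun h => by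
        simpa [mul_assoc] using (inferInstance : A.Normal).conj_mem _ h u⁻¹⟩
    rw [hH0def, mem_inf, mem_inf, hAn, mul_mem_cancel_right (inv_mem hu), mul_mem_cancel_left hu]
  -- the case of an element of `A`
  have main : ∀ a ∈ A, ∃ x ∈ H ⊔ H ⧩ a, H ⧩ a = H ⧩ x := by
    intro a ha
    obtain ⟨xA, hxA, hxe⟩ := hA (H0.subgroupOf A) ⟨S, fun s hs => mem_subgroupOf.mpr
      (hTH0 (mem_map_of_mem _ hs))⟩ ⟨a, ha⟩
    have hmap : (H0.subgroupOf A).map A.subtype = H0 := by
      rw [subgroupOf_map_subtype]; exact inf_eq_left.mpr inf_le_right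
    have hx : (xA : G) ∈ H0 ⊔ H0 ⧩ a := by
      have h1 := mem_map_of_mem A.subtype hxA
      rw [Subgroup.map_sup, map_conj_hom, hmap] at h1
      exact h1
    have hxe' : H0 ⧩ a = H0 ⧩ (xA : G) := by
      have h1 := congr_arg (Subgroup.map A.subtype) hxe
      rw [map_conj_hom, map_conj_hom, hmap] at h1
      exact h1
    set x : G := (xA : G) with hxdef
    have hc : H0 ⧩ (x⁻¹ * a) = H0 := by
      rw [← conj_conj, hxe', conj_conj, inv_mul_cancel, conj_one]
    obtain ⟨h, hh, hhn⟩ := exists_mul_mem_normalizer A S H0 inf_le_right hTH0 (x⁻¹ * a)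
      ((Subgroup.map_mono hTH0).trans hc.le)
    set b := h * (x⁻¹ * a) with hb
    have hbH0 : H0 ⧩ b = H0 := by rw [hb, ← conj_conj, hc, conj_eq_of_mem hh]
    set M := H ⊓ N with hMdef
    obtain ⟨z, hz, hze⟩ := hN M inf_le_right ⟨P, le_inf hPH hPN⟩ b hhn
    have hzH0 : H0 ⧩ z = H0 := by
      have hle : M ⊔ M ⧩ b ≤ normalizer (H0 : Set G) := by
        refine sup_le (le_trans inf_le_left hHH0) ?_
        rintro _ ⟨m, hm, rfl⟩
        have hbn := mem_normalizer_of_conj_eq hbH0
        exact mul_mem (mul_mem hbn (hHH0 hm.1)) (inv_mem hbn)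
      exact conj_eq_of_mem_normalizer (hle hz)
    have hH : H = H0 ⊔ M := by
      refine le_antisymm (fun u hu => ?_) (sup_le inf_le_left inf_le_left)
      obtain ⟨k, hk, hkn⟩ := exists_mul_mem_normalizer A S H0 inf_le_right hTH0 u
        ((Subgroup.map_mono hTH0).trans (conj_eq_of_mem_normalizer (hHH0 hu)).le)
      rw [show u = k⁻¹ * (k * u) by group]
      exact mul_mem (mem_sup_left (inv_mem hk))
        (mem_sup_right ⟨mul_mem hk.1 hu, hkn⟩)
    have hbz : H ⧩ b = H ⧩ z := by
      rw [hH, Subgroup.map_sup, Subgroup.map_sup, hbH0, hzH0, hze]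
    refine ⟨x * h⁻¹ * z, ?_, ?_⟩
    · have h0 : H0 ⊔ H0 ⧩ a ≤ H ⊔ H ⧩ a :=
        sup_le_sup inf_le_left (Subgroup.map_mono inf_le_left)
      have hxK := h0 hx
      have hhK : h ∈ H ⊔ H ⧩ a := h0 (mem_sup_left hh)
      refine mul_mem (mul_mem hxK (inv_mem hhK)) ?_
      have hle : M ⊔ M ⧩ b ≤ H ⊔ H ⧩ a := by
        refine sup_le (le_trans inf_le_left le_sup_left) ?_
        rintro _ ⟨m, hm, rfl⟩
        have h2 : a * m * a⁻¹ ∈ H ⊔ H ⧩ a := mem_sup_right ⟨m, hm.1, by simp⟩
        have h3 := mul_mem (mul_mem (mul_mem hhK (inv_mem hxK)) h2)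
          (mul_mem hxK (inv_mem hhK))
        simpa [hb, mul_assoc] using h3
      exact hle hz
    · rw [← conj_conj, ← hbz, conj_conj, show x * h⁻¹ * b = a by rw [hb]; group]
  -- reduction to an element of `A`
  intro g
  set π := QuotientGroup.mk' A
  obtain ⟨xq, hxq, hxqe⟩ := hQ (H.map π)
    ⟨P.mapSurjective (QuotientGroup.mk'_surjective A), Subgroup.map_mono hPH⟩ (π g)
  rw [← map_conj_hom, ← Subgroup.map_sup] at hxq
  obtain ⟨x, hx, rfl⟩ := hxq
  have hn : π (x⁻¹ * g) ∈ (normalizer (H : Set G)).map π := by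
    rw [hii H ⟨P, hPH⟩, mem_normalizer_iff_map_conj_eq, map_mul π, map_inv]
    change (H.map π) ⧩ ((π x)⁻¹ * π g) = H.map π
    rw [← conj_conj, hxqe, conj_conj, inv_mul_cancel, conj_one]
  obtain ⟨n, hn, hne⟩ := hn
  set a := x⁻¹ * g * n⁻¹ with hadef
  have ha : a ∈ A := by
    refine (QuotientGroup.eq_one_iff a).mp ?_
    change π a = 1
    rw [hadef, map_mul, ← hne, map_inv, mul_inv_cancel]
  have hag : H ⧩ g = H ⧩ (x * a) := by
    conv_lhs => rw [show g = x * a * n by rw [hadef]; group, ← conj_conj,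
      conj_eq_of_mem_normalizer hn]
  obtain ⟨y, hy, hye⟩ := main a ha
  refine ⟨x * y, mul_mem hx ?_, ?_⟩
  · have hle : H ⊔ H ⧩ a ≤ H ⊔ H ⧩ g := by
      refine sup_le le_sup_left ?_
      rintro _ ⟨m, hm, rfl⟩
      have h2 : x * a * m * (x * a)⁻¹ ∈ H ⊔ H ⧩ g :=
      mem_sup_right (by rw [hag]; exact ⟨m, hm, by simp [mul_assoc]⟩)
      have h3 := mul_mem (mul_mem (inv_mem hx) h2) hx
      simpa [mul_assoc] using h3
    exact hle hy
  · rw [hag, ← conj_conj, hye, conj_conj]

/-- The criterion: all overgroups of Sylow subgroups are pronormal in `G` iff the same holds in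
`N_G(T)/T` and normalisers map onto normalisers modulo `A`. -/
theorem sylowOvergroupsPronormal_iff (A : Subgroup G) [A.Normal]
    (hA : SylowOvergroupsPronormal p A) (hQ0 : SylowOvergroupsPronormal p (G ⧸ A))
    (S : Sylow p A) (T : Subgroup G) (hTS : (S : Subgroup A).map A.subtype = T)
    [(T.subgroupOf (normalizer (T : Set G))).Normal] :
    SylowOvergroupsPronormal p G ↔
      SylowOvergroupsPronormal p (normalizer (T : Set G) ⧸ T.subgroupOf (normalizer (T : Set G))) ∧
        ∀ K : Subgroup G, (∃ P : Sylow p G, (P : Subgroup G) ≤ K) →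
          (normalizer (K : Set G)).map (QuotientGroup.mk' A) =
            normalizer ((K.map (QuotientGroup.mk' A) : Subgroup (G ⧸ A)) : Set (G ⧸ A)) := by
  subst hTS
  set T := (S : Subgroup A).map A.subtype with hTdef
  set N := normalizer (T : Set G) with hNdef
  set π := QuotientGroup.mk' (T.subgroupOf N) with hπdef
  have hπ : Function.Surjective π := QuotientGroup.mk'_surjective _
  have hTp : IsPGroup p T := S.2.map _
  have hTA : T ≤ A := map_subtype_le _
  -- a Sylow subgroup of `G` meeting `A` in `T`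
  obtain ⟨P, hP⟩ := hTp.exists_le_sylow
  have hPA : (P : Subgroup G) ⊓ A = T := by
    refine le_antisymm ?_ (le_inf hP hTA)
    have h1 : ((P : Subgroup G) ⊓ A).subgroupOf A = (S : Subgroup A) :=
      S.3 ((P.2.to_le inf_le_left).comap_subtype) fun s hs =>
        mem_subgroupOf.mpr ⟨hP (mem_map_of_mem _ hs), s.2⟩
    rw [hTdef, ← h1, subgroupOf_map_subtype]
    exact le_inf le_rfl inf_le_right
  constructor
  · intro hG
    refine ⟨?_, ?_⟩
    · intro K hK
      have hPN : (P : Subgroup G) ≤ N := by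
        intro u hu
        rw [hNdef, ← hPA]
        refine mem_normalizer_iff.mpr fun t => ?_
        have hAn : t ∈ A ↔ u * t * u⁻¹ ∈ A :=
          ⟨fun h => Normal.conj_mem inferInstance t h u, fun h => by
            simpa [mul_assoc] using (inferInstance : A.Normal).conj_mem _ h u⁻¹⟩
        rw [mem_inf, mem_inf, hAn, mul_mem_cancel_right (inv_mem hu), mul_mem_cancel_left hu]
      have hidx : ¬ p ∣ ((K.comap π).map N.subtype).index := by
        rw [index_map_subtype]
        refine (Fact.out : p.Prime).not_dvd_mul ?_ ?_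
        · rw [index_comap_of_surjective _ hπ]
          obtain ⟨Q, hQ⟩ := hK
          exact fun hd => Q.not_dvd_index (hd.trans (index_dvd_of_le hQ))
        · exact fun hd => P.not_dvd_index (hd.trans (index_dvd_of_le hPN))
      have hpn := hG _ (SymTwo.exists_sylow_le_of_not_dvd_index _ hidx)
      intro g
      obtain ⟨g, rfl⟩ := hπ g
      obtain ⟨x, hx, hxe⟩ := hpn (g : G)
      rw [show (g : G) = N.subtype g from rfl, ← map_conj_hom, ← Subgroup.map_sup] at hx
      obtain ⟨x, hx', rfl⟩ := hx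
      refine ⟨π x, ?_, ?_⟩
      · have h1 := mem_map_of_mem π hx'
        rwa [Subgroup.map_sup, map_conj_hom, map_comap_eq_self_of_surjective hπ] at h1
      · rw [show (g : G) = N.subtype g from rfl, ← map_conj_hom, ← map_conj_hom] at hxe
        have h1 := congr_arg (Subgroup.map π) (Subgroup.map_injective N.subtype_injective hxe)
        rwa [map_conj_hom, map_conj_hom, map_comap_eq_self_of_surjective hπ] at h1
    · intro K hK
      set ρ := QuotientGroup.mk' A
      refine le_antisymm (le_normalizer_map ρ) fun gq hgq => ?_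
      obtain ⟨g, rfl⟩ := QuotientGroup.mk'_surjective A gq
      obtain ⟨x, hx, hxe⟩ := hG K hK g
      have hxq : ρ x ∈ K.map ρ := by
        have h1 := mem_map_of_mem ρ hx
        rwa [Subgroup.map_sup, map_conj_hom, conj_eq_of_mem_normalizer hgq, sup_idem] at h1
      obtain ⟨k, hk, hke⟩ := hxq
      refine ⟨k * x⁻¹ * g, ?_, by rw [map_mul, map_mul, map_inv, hke, mul_inv_cancel, one_mul]⟩
      refine mem_normalizer_of_conj_eq ?_
      rw [← conj_conj, hxe, conj_conj, inv_mul_cancel_right, conj_eq_of_mem hk]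
  · rintro ⟨hi, hii⟩
    have hN : ∀ M : Subgroup G, M ≤ N → (∃ P : Sylow p G, (P : Subgroup G) ≤ M) →
        ∀ g ∈ N, ∃ x ∈ M ⊔ M ⧩ g, M ⧩ g = M ⧩ x := by
      rintro M hMN ⟨Q, hQ⟩ g hg
      have hQN : (Q : Subgroup G) ≤ N := hQ.trans hMN
      have hTQ : T.subgroupOf N ≤ M.subgroupOf N := by
        have hp1 : IsPGroup p (T.subgroupOf N) := hTp.comap_subtype
        exact (hp1.le_sylow_of_normal (Q.subtype hQN)).trans (Subgroup.comap_mono hQ)
      obtain ⟨xq, hxq, hxe⟩ := hi ((M.subgroupOf N).map π)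
        ⟨(Q.subtype hQN).mapSurjective hπ, Subgroup.map_mono (Subgroup.comap_mono hQ)⟩ (π ⟨g, hg⟩)
      rw [← map_conj_hom, ← Subgroup.map_sup] at hxq
      obtain ⟨x, hx, rfl⟩ := hxq
      rw [← map_conj_hom, ← map_conj_hom] at hxe
      have hker : ∀ y : N, T.subgroupOf N ≤ (M.subgroupOf N) ⧩ y := fun y t ht => by
        have := hTQ ((inferInstance : (T.subgroupOf N).Normal).conj_mem' t ht y)
        exact ⟨_, this, by simp [mul_assoc]⟩
      have hxe' : (M.subgroupOf N) ⧩ (⟨g, hg⟩ : N) = (M.subgroupOf N) ⧩ x := by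
        have h1 := congr_arg (Subgroup.comap π) hxe
        rwa [comap_map_eq, comap_map_eq, hπdef, QuotientGroup.ker_mk', sup_of_le_left (hker _),
          sup_of_le_left (hker _)] at h1
      refine ⟨(x : G), ?_, ?_⟩
      · have h1 := mem_map_of_mem N.subtype hx
        rwa [Subgroup.map_sup, map_conj_hom, subgroupOf_map_subtype,
          inf_eq_left.mpr hMN] at h1
      · have h1 := congr_arg (Subgroup.map N.subtype) hxe'
        rwa [map_conj_hom, map_conj_hom, subgroupOf_map_subtype, inf_eq_left.mpr hMN] at h1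
    rintro H ⟨Q, hQ⟩
    -- conjugate `H` so that its Sylow subgroup meets `A` in `T`
    obtain ⟨w, hw⟩ := MulAction.exists_smul_eq G Q P
    have hw' : (Q : Subgroup G) ⧩ w = (P : Subgroup G) := by
      rw [← hw]; rfl
    have hpn := isPronormal_of_extension A S hA hQ0 hN hii (H ⧩ w) P
      (hw' ▸ Subgroup.map_mono hQ) hPA
    have h2 := isPronormal_conj _ w⁻¹ hpn
    rwa [conj_conj, inv_mul_cancel, conj_one] at h2

end CfsgLib.PronormalSylow
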